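import Groth.Agent.AffCompl.Section
import Groth.Agent.IntSym.CurveSurface
import Groth.Agent.ConnCompl.Basic
import Groth.Agent.S18372
import Groth.Agent.S1568
import Groth.Agent.S1519
import Groth.Agent.InvX.GenLocusPull
import Groth.Agent.PicClLib.Basic

/-!
# Curves in the complement of an affine open of a regular surface, and degrees from sections
-/

set_option autoImplicit false
set_option linter.style.haveILetI false
set_option linter.unusedSectionVars false
set_option backward.isDefEq.respectTransparency false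
set_option backward.isDefEq.respectTransparency.types false
set_option maxHeartbeats 800000

universe u

open CategoryTheory CategoryTheory.Limits AlgebraicGeometry TopologicalSpace
open Groth.Agent.H23.PicMul
open scoped Groth.Agent.H23.PicMul

noncomputable section

namespace Groth.Agent.AffCompl

open IntSym (sym Inv)

variable (k : Type u) [Field k] {X : Scheme.{u}} [X.Over (Spec (CommRingCat.of k))]
  [IsProper (X ↘ Spec (CommRingCat.of k))]

/-- The degree on the closed subscheme of `i`. -/
def dg {C : Scheme.{u}} (i : C ⟶ X) (L : X.Modules) : ℤ :=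
  sym k [L] ((Coh.push i).obj (Coh.structureModule C))

theorem dim_support_push {C : Scheme.{u}} (i : C ⟶ X) [IsClosedImmersion i]
    (hC : topologicalKrullDim C = ((1 : ℕ) : WithBot ℕ∞)) :
    topologicalKrullDim ↥(CohB1.support ((Coh.push i).obj (Coh.structureModule C))) ≤ ((1 : ℕ) : WithBot ℕ∞) :=
  (H23.TopDim.dim_le_dim_of_subset (T := Set.range i)
    (QCoh.support_push_subset i QCoh.isQCoh_structureModule)).trans ((IntSym.dim_eq_of_range i rfl).symm.le.trans hC.le)

theorem dg_eq_deg {C : Scheme.{u}} (i : C ⟶ X) [IsClosedImmersion i] {L : X.Modules} (hL : PicF.IsInvertible L) :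
    dg k i L = @Curv2.deg k _ C ⟨i ≫ (X ↘ Spec (CommRingCat.of k))⟩ ((Scheme.Modules.pullback i).obj L) 1 := by
  haveI := CurveCohLib.isNoetherian_of_proper (k := k) (X := X)
  letI : C.Over (Spec (CommRingCat.of k)) := ⟨i ≫ (X ↘ Spec (CommRingCat.of k))⟩
  rw [IntNum.deg_pullback_closed k i rfl (CurveDeg.isCoh_of_isInvertible hL).1, Nat.cast_one, one_mul]
  rfl

theorem dg_tensor {C : Scheme.{u}} (i : C ⟶ X) [IsClosedImmersion i]
    (hC : topologicalKrullDim C = ((1 : ℕ) : WithBot ℕ∞)) {A B : X.Modules}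
    (hA : PicF.IsInvertible A) (hB : PicF.IsInvertible B) :
    dg k i (CohB1.tensorMod A B) = dg k i A + dg k i B := by
  haveI := CurveCohLib.isNoetherian_of_proper (k := k) (X := X)
  exact IntSym.sym_tensor_head k hA hB (List.forall_mem_nil _) (QCoh.isCoh_push_structure i)
    (dim_support_push i hC)

theorem dg_pow {C : Scheme.{u}} (i : C ⟶ X) [IsClosedImmersion i]
    (hC : topologicalKrullDim C = ((1 : ℕ) : WithBot ℕ∞)) {A : X.Modules} (hA : PicF.IsInvertible A) (n : ℕ) :
    dg k i (CohB1.tensorPow A n) = n * dg k i A := by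
  haveI := CurveCohLib.isNoetherian_of_proper (k := k) (X := X)
  exact IntSym.sym_tensorPow_head k hA (List.forall_mem_nil _) (QCoh.isCoh_push_structure i)
    (dim_support_push i hC) n

/-- A section nonzero on a curve gives a non-negative degree, positive if it vanishes somewhere. -/
theorem dg_of_section {C : Scheme.{u}} (i : C ⟶ X) [IsClosedImmersion i] [IsIntegral C]
    (hC : topologicalKrullDim C = ((1 : ℕ) : WithBot ℕ∞)) {L : X.Modules} (hL : PicF.IsInvertible L)
    (s : Coh.structureModule X ⟶ L) (hη : i (genericPoint C) ∈ CohB1.genLocus L s) :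
    0 ≤ dg k i L ∧ ∀ z : C, i z ∉ CohB1.genLocus L s → 0 < dg k i L := by
  haveI := CurveCohLib.isNoetherian_of_proper (k := k) (X := X)
  rw [dg_eq_deg k i hL]
  letI : C.Over (Spec (CommRingCat.of k)) := ⟨i ≫ (X ↘ Spec (CommRingCat.of k))⟩
  haveI : IsProper (C ↘ Spec (CommRingCat.of k)) :=
    inferInstanceAs (IsProper (i ≫ (X ↘ Spec (CommRingCat.of k))))
  obtain ⟨e⟩ := PicClLib.nonempty_pullback_structureModule i
  let t := e.inv ≫ (Scheme.Modules.pullback i).map s
  have hloc : CohB1.genLocus ((Scheme.Modules.pullback i).obj L) t = i ⁻¹ᵁ CohB1.genLocus L s :=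
    InvX.genLocus_pullback i hL s e.symm
  have hLC := PicClLib.isInvertible_pullback i hL
  have ht : t ≠ 0 := ne_zero_of_mem t (x := genericPoint C) (hloc.ge hη)
  have hC1 : topologicalKrullDim C = 1 := by rw [hC, Nat.cast_one]
  refine ⟨?_, fun z hz => S1519.result k C hC1 _ hLC t ht z fun h => hz (hloc.le h)⟩
  have h := (CurveDeg.deg_le_and_isIso k hC1.le CurveDeg.isInvertible_structureModule hLC t ht).1
  rwa [CurveDeg.deg_structureModule] at h

theorem dg_congr {C C' : Scheme.{u}} (i : C ⟶ X) (j : C' ⟶ X) [IsClosedImmersion i] [IsClosedImmersion j]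
    [IsIntegral C] [IsIntegral C'] (hr : Set.range i = Set.range j) {L : X.Modules} (hL : PicF.IsInvertible L) :
    dg k i L = dg k j L := by
  haveI := CurveCohLib.isNoetherian_of_proper (k := k) (X := X)
  obtain ⟨e⟩ := QCoh.push_structure_iso i j hr.symm
  exact IntSym.sym_iso k (List.forall_mem_singleton.2 hL) e.symm

local notation "πk" => (X ↘ Spec (CommRingCat.of k))

theorem deg_lt {x y : X} (h : x ⤳ y) (hne : x ≠ y) : VarDim.deg πk y < VarDim.deg πk x :=
  VarDim.deg_strictMono πk (lt_iff_le_not_ge.2 ⟨h, fun h' => hne (h.antisymm h').eq⟩)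

theorem exists_curve {ξ : X} (hξ : VarDim.deg πk ξ = 1) :
    ∃ (C : Scheme.{u}) (i : C ⟶ X), IsClosedImmersion i ∧ IsIntegral C ∧
      topologicalKrullDim C = ((1 : ℕ) : WithBot ℕ∞) ∧ Set.range i = closure {ξ} := by
  haveI := ConnCompl.isIntegral_vanishing (isClosed_closure (s := ({ξ} : Set X))) isIrreducible_singleton.closure
  let I := Scheme.IdealSheafData.vanishingIdeal ⟨closure ({ξ} : Set X), isClosed_closure⟩
  have hr : Set.range I.subschemeι = closure {ξ} := by
    rw [Scheme.IdealSheafData.range_subschemeι, Scheme.IdealSheafData.coe_support_vanishingIdeal]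
    rfl
  refine ⟨_, I.subschemeι, inferInstance, ‹_›, ?_, hr⟩
  rw [IntSym.dim_eq_of_range I.subschemeι hr, VarDim.topologicalKrullDim_closure_singleton πk ξ, hξ]
  rfl

theorem deg_genericPoint_curve {C : Scheme.{u}} (i : C ⟶ X) [IsClosedImmersion i] [IsIntegral C]
    (hC : topologicalKrullDim C = ((1 : ℕ) : WithBot ℕ∞)) : VarDim.deg πk (i (genericPoint C)) = 1 := by
  have h := VarDim.topologicalKrullDim_closure_singleton πk (i (genericPoint C))
  rw [← IntSym.dim_eq_of_range i (QCoh.range_eq_closure i), hC] at h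
  exact_mod_cast h.symm

variable [IsIntegral X] (hdim : topologicalKrullDim X = ((2 : ℕ) : WithBot ℕ∞))

include hdim in
theorem deg_genericPoint : VarDim.deg πk (genericPoint ↥X) = 2 := by
  have h := VarDim.topologicalKrullDim_eq_deg_genericPoint πk
  rw [hdim] at h
  exact ENat.natCast_inj.1 (WithBot.coe_inj.1 h.symm)

include hdim in
theorem deg_add_stalk (x : X) :
    ∃ b : ℕ, ringKrullDim (X.presheaf.stalk x) = b ∧ VarDim.deg πk x + b = 2 := by
  obtain ⟨b, hb, ⟨η, hηx, hηd⟩, hle⟩ := VarDim.exists_deg_add_stalk πk x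
  have h1 : VarDim.deg πk η ≤ 2 :=
    deg_genericPoint k hdim ▸ VarDim.deg_le_of_specializes πk (genericPoint_specializes η)
  have h2 := hle (genericPoint ↥X) (genericPoint_specializes x)
  rw [deg_genericPoint k hdim] at h2
  exact ⟨b, hb, by omega⟩

include hdim in
theorem ringKrullDim_stalk {ξ : X} (hξ : VarDim.deg πk ξ = 1) : ringKrullDim (X.presheaf.stalk ξ) ≤ 1 := by
  obtain ⟨b, hb, h2⟩ := deg_add_stalk k hdim ξ
  rw [hb, show b = 1 by omega]
  rfl

include hdim in
/-- Every point of a divisor lies on a curve of the divisor. -/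
theorem exists_curve_point {D : X.IdealSheafData} (hD : BlowUp.IsEffCartierIdeal D) {x : X}
    (hx : x ∈ D.support) : ∃ ξ, ξ ∈ D.support ∧ ξ ⤳ x ∧ VarDim.deg πk ξ = 1 := by
  haveI := CurveCohLib.isNoetherian_of_proper (k := k) (X := X)
  obtain ⟨S, hSf, hSc, hSi, hS⟩ := NoetherianSpace.exists_finite_set_isClosed_irreducible D.support.isClosed
  classical
  let P : X → Prop := fun ξ => ξ ∈ (D.support : Set X) ∧ ξ ⤳ x
  have hex : ∃ ξ, P ξ ∧ ∀ y, P y → y ⤳ ξ → y = ξ := by
    have hb : ∀ n, ∀ y, P y → 2 - VarDim.deg πk y ≤ n → ∃ ξ, P ξ ∧ ∀ y, P y → y ⤳ ξ → y = ξ := by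
      intro n
      induction n with
      | zero =>
        intro y hy h0
        refine ⟨y, hy, fun z _ hzy => by_contra fun hne => ?_⟩
        have h1 := deg_lt k hzy hne
        have h2 : VarDim.deg πk z ≤ 2 :=
          deg_genericPoint k hdim ▸ VarDim.deg_le_of_specializes πk (genericPoint_specializes z)
        omega
      | succ n ih =>
        intro y hy hn
        by_cases h : ∀ z, P z → z ⤳ y → z = y
        · exact ⟨y, hy, h⟩
        push Not at h
        obtain ⟨z, hz, hzy, hne⟩ := h
        have h1 := deg_lt k hzy hne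
        exact ih z hz (by omega)
    exact hb 2 x ⟨hx, specializes_rfl⟩ (Nat.sub_le _ _)
  obtain ⟨ξ, ⟨hξD, hξx⟩, hmax⟩ := hex
  have h1 := S1568.result X D hD ξ hξD fun y hy hyξ => hmax y ⟨hy, hyξ.trans hξx⟩ hyξ
  obtain ⟨b, hb, h2⟩ := deg_add_stalk k hdim ξ
  rw [hb] at h1
  have hb1 : b = 1 := by exact_mod_cast h1
  exact ⟨ξ, hξD, hξx, by omega⟩

include hdim in
/-- The curves outside a nonempty open are finite in number. -/
theorem finite_curves (U : X.Opens) (hU : (U : Set X).Nonempty) :
    {ξ : X | ξ ∉ U ∧ VarDim.deg πk ξ = 1}.Finite := by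
  classical
  haveI := CurveCohLib.isNoetherian_of_proper (k := k) (X := X)
  have hηU : genericPoint ↥X ∈ U := by
    obtain ⟨x, hx⟩ := hU
    exact (genericPoint_specializes x).mem_open U.isOpen hx
  obtain ⟨S, hSf, hSc, hSi, hS⟩ :=
    NoetherianSpace.exists_finite_set_isClosed_irreducible U.isOpen.isClosed_compl
  have hgen : ∀ t ∈ S, ∃ g, IsGenericPoint g t := fun t ht => QuasiSober.sober (hSi t ht) (hSc t ht)
  choose! g hg using hgen
  refine (hSf.image g).subset ?_
  rintro ξ ⟨hξU, hξ⟩
  obtain ⟨t, ht, hξt⟩ : ξ ∈ ⋃₀ S := hS ▸ hξU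
  refine ⟨t, ht, by_contra fun hne => ?_⟩
  have hgU : g t ∉ U := hS.ge ⟨t, ht, (hg t ht).mem⟩
  have h1 := deg_lt k ((hg t ht).specializes hξt) hne
  have h2 := deg_lt k (genericPoint_specializes (g t)) fun h => hgU (h ▸ hηU)
  rw [deg_genericPoint k hdim] at h2
  omega

/-- A closed subset of an affine open contains no curve. -/
theorem notMem_of_closed_in_affine {U : X.Opens} (hU : IsAffineOpen U) {Z : Set X} (hZ : IsClosed Z)
    (hZU : Z ⊆ U) {ξ : X} (hξ : VarDim.deg πk ξ = 1) : ξ ∉ Z := fun h => by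
  haveI : JacobsonSpace X := LocallyOfFiniteType.jacobsonSpace πk
  have h0 := (VarDim.closedPoint_iff_deg_eq_zero πk ξ).1
    (S17351.isClosed_of_mem hZ (S18372.finite_of_closed_affine πk hU hZ hZU) h)
  omega

end Groth.Agent.AffCompl
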