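import Groth.Agent.IdealSub.OfMono
import Groth.Agent.CurveAlgEqLib.IdealPull
import Groth.Agent.MeroX.EffCartier
import Groth.Agent.Lib.InvEnd
import Groth.Agent.S8914
import Groth.Agent.Lib.CurveDeg
import Groth.Agent.InvX.Frame
import Mathlib.AlgebraicGeometry.FunctionField
import Mathlib.RingTheory.Localization.NumDen

/-!
# Numerator and denominator divisors of a function on an open

For a function `f` on an open `U` of an integral scheme with factorial local rings, the ideals of
denominators and of numerators are effective Cartier with isomorphic modules and share no point of codimension one.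
-/

set_option autoImplicit false
set_option linter.style.haveILetI false
set_option linter.unusedSectionVars false
set_option backward.isDefEq.respectTransparency false
set_option backward.isDefEq.respectTransparency.types false
set_option maxHeartbeats 800000

universe u

open CategoryTheory CategoryTheory.Limits AlgebraicGeometry TopologicalSpace

noncomputable section

namespace Groth.Agent.AffCompl

open AModX

variable {X : Scheme.{u}} [IsIntegral X]

theorem nonempty_inf (V U : X.Opens) [hV : Nonempty V] [hU : Nonempty U] :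
    Nonempty (V ⊓ U : X.Opens).toScheme :=
  ⟨⟨genericPoint X, ((genericPoint_spec X).mem_open_set_iff V.isOpen).2 (by simpa using hV),
    ((genericPoint_spec X).mem_open_set_iff U.isOpen).2 (by simpa using hU)⟩⟩

theorem gtf_res {V W : X.Opens} (h : W ≤ V) [Nonempty V] [Nonempty W] (a : Γ(X, V)) :
    X.germToFunctionField W (resR h a) = X.germToFunctionField V a :=
  X.presheaf.germ_res_apply _ _ _ a

theorem subsingleton_of_empty {W : X.Opens} (h : ¬ Nonempty W) : Subsingleton Γ(X, W) := by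
  obtain rfl : W = ⊥ := Opens.ext (Set.eq_empty_of_forall_notMem fun x hx => h ⟨⟨x, hx⟩⟩)
  infer_instance

/-- In a factorial ring of dimension one, coprime elements are not both non-units. -/
theorem isUnit_of_isRelPrime {R : Type u} [CommRing R] [IsDomain R] [IsLocalRing R] [UniqueFactorizationMonoid R]
    (hd : ringKrullDim R ≤ 1) {p q : R} (h : IsRelPrime p q) (hq0 : q ≠ 0) (hq : ¬ IsUnit q) : IsUnit p := by
  obtain ⟨π, hπ, hπq⟩ := WfDvdMonoid.exists_irreducible_factor hq hq0
  haveI : Ring.KrullDimLE 1 R := Ring.krullDimLE_iff.2 (by exact_mod_cast hd)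
  have hP : (Ideal.span ({π} : Set R)).IsPrime := (Ideal.span_singleton_prime hπ.ne_zero).2 hπ.prime
  have hmax := hP.isMaximal_of_ne_bot (by simpa using hπ.ne_zero)
  by_contra hp
  refine hπ.not_isUnit (h ?_ hπq)
  rw [← Ideal.mem_span_singleton, IsLocalRing.eq_maximalIdeal hmax]
  exact (IsLocalRing.mem_maximalIdeal _).2 hp

variable {U : X.Opens} [hU : Nonempty U] (f : Γ(X, U))

/-- `b = a · f` over `V ∩ U`. -/
def Rel {V : X.Opens} (a b : Γ(X, V)) : Prop :=
  resR (inf_le_left : V ⊓ U ≤ V) b = resR (inf_le_left : V ⊓ U ≤ V) a * resR (inf_le_right : V ⊓ U ≤ U) f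

theorem rel_iff {V : X.Opens} [Nonempty V] {a b : Γ(X, V)} :
    Rel f a b ↔ X.germToFunctionField V b = X.germToFunctionField V a * X.germToFunctionField U f := by
  haveI := nonempty_inf V U
  rw [Rel, ← (Scheme.germToFunctionField_injective X (V ⊓ U)).eq_iff, map_mul, gtf_res, gtf_res, gtf_res]

theorem Rel.res {V W : X.Opens} (h : W ≤ V) {a b : Γ(X, V)} (hr : Rel f a b) : Rel f (resR h a) (resR h b) := by
  have h1 := congrArg (resR (inf_le_inf_right U h : W ⊓ U ≤ V ⊓ U)) hr
  simp only [map_mul, resR_resR] at h1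
  simp only [Rel, resR_resR]
  exact h1

theorem Rel.unique {V : X.Opens} {a b b' : Γ(X, V)} (h : Rel f a b) (h' : Rel f a b') : b = b' := by
  by_cases hV : Nonempty V
  · exact Scheme.germToFunctionField_injective X V (((rel_iff f).1 h).trans ((rel_iff f).1 h').symm)
  · exact (subsingleton_of_empty hV).elim _ _

theorem Rel.smul {V : X.Opens} (r : Γ(X, V)) {a b : Γ(X, V)} (h : Rel f a b) : Rel f (r * a) (r * b) := by
  simp only [Rel, map_mul] at h ⊢
  rw [h, mul_assoc]

/-- The denominators of `f`. -/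
def denIdeal (V : X.Opens) : Ideal Γ(X, V) where
  carrier := {a | ∃ b, Rel f a b}
  add_mem' := by
    rintro a a' ⟨b, hb⟩ ⟨b', hb'⟩
    refine ⟨b + b', ?_⟩
    simp only [Rel, map_add] at hb hb' ⊢
    rw [hb, hb', add_mul]
  zero_mem' := ⟨0, by simp [Rel]⟩
  smul_mem' := by
    rintro r a ⟨b, hb⟩
    exact ⟨r * b, hb.smul f r⟩

/-- The ideal sheaf of denominators. -/
def den : X.IdealSheafData where
  ideal V := denIdeal f V.1
  map_ideal_basicOpen V r := by
    refine le_antisymm (Ideal.map_le_iff_le_comap.2 ?_) ?_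
    · rintro a ⟨b, hb⟩
      exact ⟨_, hb.res f (X.basicOpen_le r)⟩
    · suffices ∀ a' b' : Γ(X, X.basicOpen r), Rel f a' b' →
          a' ∈ (denIdeal f V.1).map (resR (X.basicOpen_le r)) from
        fun a' ⟨b', hb'⟩ => this a' b' hb'
      intro a' b' hb'
      by_cases hD : Nonempty (X.basicOpen r)
      swap
      · haveI : Subsingleton Γ(X, X.basicOpen r) := subsingleton_of_empty hD
        rw [Subsingleton.elim a' 0]
        exact Ideal.zero_mem _
      haveI : Nonempty V.1 := hD.map fun x => ⟨x.1, X.basicOpen_le r x.2⟩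
      haveI := V.2.isLocalization_basicOpen r
      obtain ⟨⟨a, ⟨_, n, rfl⟩⟩, ha⟩ := IsLocalization.surj (Submonoid.powers r) a'
      obtain ⟨⟨b, ⟨_, m, rfl⟩⟩, hb⟩ := IsLocalization.surj (Submonoid.powers r) b'
      let ρ := resR (X.basicOpen_le r)
      have ha : a' * ρ (r ^ n) = ρ a := ha
      have hb : b' * ρ (r ^ m) = ρ b := hb
      have ha₁ : ρ (r ^ m * a) = ρ (r ^ (n + m)) * a' := by
        rw [map_mul, ← ha, pow_add, map_mul]; ring
      have hb₁ : ρ (r ^ n * b) = ρ (r ^ (n + m)) * b' := by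
        rw [map_mul, ← hb, pow_add, map_mul]; ring
      have hrel : Rel f (r ^ m * a) (r ^ n * b) := by
        have h1 := hb'.smul f (ρ (r ^ (n + m)))
        rw [← ha₁, ← hb₁] at h1
        rw [rel_iff, gtf_res, gtf_res] at h1
        exact (rel_iff f).2 h1
      have hu : IsUnit (ρ (r ^ (n + m))) := by
        rw [map_pow]
        exact (X.toRingedSpace.isUnit_res_basicOpen r).pow _
      refine (Ideal.unit_mul_mem_iff_mem _ hu).1 ?_
      rw [← ha₁]
      exact Ideal.mem_map_of_mem _ ⟨_, hrel⟩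

theorem mem_den {V : X.affineOpens} {a : Γ(X, V.1)} : a ∈ (den f).ideal V ↔ ∃ b, Rel f a b := Iff.rfl

theorem notMem_support_den {x : X} (hx : x ∈ U) : x ∉ (den f).support := by
  obtain ⟨_, ⟨V, hV, rfl⟩, hxV, hVU⟩ := X.isBasis_affineOpens.exists_subset_of_mem_open hx U.isOpen
  rw [Scheme.IdealSheafData.mem_support_iff_of_mem (U := ⟨V, hV⟩) hxV, Scheme.mem_zeroLocus_iff]
  refine fun h => h 1 (mem_den f |>.2 ⟨resR (show V ≤ U from hVU) f, ?_⟩) ((X.basicOpen_of_isUnit isUnit_one).ge hxV)
  simp only [Rel, map_one, one_mul, resR_resR]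

/-- The stalk of the denominators is generated by the reduced denominator. -/
theorem stalk_den (V : X.affineOpens) {x : X} (hx : x ∈ V.1) [UniqueFactorizationMonoid (X.presheaf.stalk x)] :
    ∃ a b : Γ(X, V.1), Rel f a b ∧ X.presheaf.germ V.1 x hx a ≠ 0 ∧
      IsRelPrime (X.presheaf.germ V.1 x hx b) (X.presheaf.germ V.1 x hx a) ∧
      ((den f).ideal V).map (X.presheaf.germ V.1 x hx).hom = Ideal.span {X.presheaf.germ V.1 x hx a} := by
  haveI : Nonempty V.1 := ⟨⟨x, hx⟩⟩
  set F := X.germToFunctionField U f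
  set p := IsFractionRing.num (X.presheaf.stalk x) F
  set q : X.presheaf.stalk x := (IsFractionRing.den (X.presheaf.stalk x) F : X.presheaf.stalk x)
  have hq : q ≠ 0 := nonZeroDivisors.coe_ne_zero _
  have hpq : algebraMap _ X.functionField p = F * algebraMap _ X.functionField q := by
    have h := IsFractionRing.mk'_num_den' (X.presheaf.stalk x) F
    rw [div_eq_iff ((map_ne_zero_iff _ (IsFractionRing.injective _ _)).2 hq)] at h
    exact h
  letI := X.presheaf.algebra_section_stalk ⟨x, hx⟩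
  haveI := V.2.isLocalization_stalk ⟨x, hx⟩
  obtain ⟨⟨a₀, s⟩, hs⟩ := IsLocalization.surj (V.2.primeIdealOf ⟨x, hx⟩).asIdeal.primeCompl q
  obtain ⟨⟨b₀, t⟩, ht⟩ := IsLocalization.surj (V.2.primeIdealOf ⟨x, hx⟩).asIdeal.primeCompl p
  have hsu := IsLocalization.map_units (X.presheaf.stalk x) s
  have htu := IsLocalization.map_units (X.presheaf.stalk x) t
  let g := X.presheaf.germ V.1 x hx
  change q * g s.1 = g a₀ at hs
  change p * g t.1 = g b₀ at ht
  change IsUnit (g s.1) at hsu
  change IsUnit (g t.1) at htu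
  have ha : g (a₀ * t.1) = (g s.1 * g t.1) * q := by rw [map_mul, ← hs]; ring
  have hb : g (b₀ * s.1) = (g s.1 * g t.1) * p := by rw [map_mul, ← ht]; ring
  have hu := hsu.mul htu
  have hgK : ∀ c, X.germToFunctionField V.1 c = algebraMap (X.presheaf.stalk x) X.functionField (g c) :=
    fun c => (Scheme.algebraMap_germ_eq_germToFunctionField X hx c).symm
  have hrel : Rel f (a₀ * t.1) (b₀ * s.1) := by
    rw [rel_iff, hgK, hgK, ha, hb, map_mul (algebraMap (X.presheaf.stalk x) X.functionField) _ p,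
      map_mul (algebraMap (X.presheaf.stalk x) X.functionField) _ q, hpq]
    ring
  have hcop : IsRelPrime (g (b₀ * s.1)) (g (a₀ * t.1)) := by
    rw [ha, hb]
    exact (isRelPrime_mul_unit_left hu).2 (IsFractionRing.num_den_reduced _ F)
  refine ⟨a₀ * t.1, b₀ * s.1, hrel, ha ▸ mul_ne_zero hu.ne_zero hq, hcop, le_antisymm ?_ ?_⟩
  · rw [Ideal.map_le_iff_le_comap]
    rintro a ⟨b, hab⟩
    rw [Ideal.mem_comap, Ideal.mem_span_singleton]
    refine hcop.symm.dvd_of_dvd_mul_right ⟨g b, IsFractionRing.injective (X.presheaf.stalk x) X.functionField ?_⟩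
    change algebraMap (X.presheaf.stalk x) X.functionField (g a * g (b₀ * s.1)) = _
    rw [map_mul (algebraMap (X.presheaf.stalk x) X.functionField),
      map_mul (algebraMap (X.presheaf.stalk x) X.functionField), ← hgK, ← hgK, ← hgK, ← hgK,
      (rel_iff f).1 hab, (rel_iff f).1 hrel]
    ring
  · rw [Ideal.span_singleton_le_iff_mem]
    exact Ideal.mem_map_of_mem _ ⟨_, hrel⟩

theorem isEffCartier_den [IsLocallyNoetherian X] (hufd : ∀ x : X, UniqueFactorizationMonoid (X.presheaf.stalk x)) :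
    BlowUp.IsEffCartierIdeal (den f) :=
  MeroX.isEffCartier_of_stalk _ fun x _ V hx => by
    haveI := hufd x
    obtain ⟨a, b, -, ha, -, hI⟩ := stalk_den f V hx
    exact ⟨_, mem_nonZeroDivisors_of_ne_zero ha, hI⟩

/-- If there are no denominators the function extends. -/
theorem exists_extension (h : ((den f).support : Set X) = ∅) : ∃ g : Γ(X, ⊤), resR (le_top : U ≤ ⊤) g = f := by
  have htop : den f = ⊤ := (Scheme.IdealSheafData.support_eq_bot_iff _).1 (Closeds.ext (by simpa using h))
  have hmem : ∀ V : X.affineOpens, ∃ b, Rel f (1 : Γ(X, V.1)) b := fun V => (mem_den f).1 (by rw [htop]; trivial)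
  choose b hb using hmem
  have huniq : ∀ (W : X.Opens) (V : X.affineOpens) (hW : W ≤ V.1), Rel f 1 (resR hW (b V)) := fun W V hW => by
    have := (hb V).res f hW
    rwa [map_one] at this
  obtain ⟨g, hg, -⟩ := existsUnique_glue (M := Coh.structureModule X) (V := ⊤) (fun V : X.affineOpens => V.1)
    (fun _ => le_top) (fun p _ => by
      obtain ⟨_, ⟨V, hV, rfl⟩, hpV, -⟩ := X.isBasis_affineOpens.exists_subset_of_mem_open (Set.mem_univ p) isOpen_univ
      exact ⟨⟨V, hV⟩, hpV⟩) b
    (fun V V' => Rel.unique f (huniq _ V inf_le_left) (huniq _ V' inf_le_right))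
  refine ⟨g, eq_of_locally (M := Coh.structureModule X) _ _ fun p hp => ?_⟩
  obtain ⟨_, ⟨V, hV, rfl⟩, hpV, hVU⟩ := X.isBasis_affineOpens.exists_subset_of_mem_open hp U.isOpen
  refine ⟨V, hVU, hpV, ?_⟩
  show resR (show V ≤ U from hVU) (resR le_top g) = resR (show V ≤ U from hVU) f
  rw [resR_resR, show resR (le_top : V ≤ ⊤) g = b ⟨V, hV⟩ from hg ⟨V, hV⟩]
  refine Rel.unique f (hb ⟨V, hV⟩) ?_
  simp only [Rel, map_one, one_mul, resR_resR]

/-- The pair of divisors of a function. -/
theorem exists_pair [IsLocallyNoetherian X] (hufd : ∀ x : X, UniqueFactorizationMonoid (X.presheaf.stalk x))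
    (hf : f ≠ 0) :
    ∃ J K : X.IdealSheafData, BlowUp.IsEffCartierIdeal J ∧ BlowUp.IsEffCartierIdeal K ∧
      Nonempty (ClSub.idealMod J ≅ ClSub.idealMod K) ∧ (∀ x ∈ U, x ∉ J.support) ∧
      ((J.support : Set X) = ∅ → ∃ g : Γ(X, ⊤), resR (le_top : U ≤ ⊤) g = f) ∧
      ∀ x : X, ringKrullDim (X.presheaf.stalk x) ≤ 1 → x ∈ J.support → x ∉ K.support := by
  let J := den f
  have hJ : BlowUp.IsEffCartierIdeal J := isEffCartier_den f hufd
  have hJi := (S8914.result J).2 hJ
  have hloc : ∀ x : X, ∃ (W : X.affineOpens) (_ : x ∈ W.1) (e : Γ(ClSub.idealMod J, W.1)) (b : Γ(X, W.1)),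
      InvX.IsFrame e ∧ Rel f (OmegaSh.idealSect J W.1 e) b := fun x => by
    obtain ⟨U₀, hxU₀, e, he⟩ := InvX.exists_frame hJi x
    obtain ⟨_, ⟨W, hW, rfl⟩, hxW, hle⟩ := X.isBasis_affineOpens.exists_subset_of_mem_open hxU₀ U₀.isOpen
    obtain ⟨b, hb⟩ := (mem_den f).1 (OmegaLib.idealSect_mem J ⟨W, hW⟩ (res _ (show W ≤ U₀ from hle) e))
    exact ⟨⟨W, hW⟩, hxW, _, b, he.res _, hb⟩
  choose W hxW e b he hb using hloc
  have hcov : ∀ x, ∃ a, x ∈ (W a).1 := fun x => ⟨x, hxW x⟩
  have hc : ∀ (a c : X) (V : X.Opens) (ha : V ≤ (W a).1) (hc : V ≤ (W c).1) (g : Γ(X, V)),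
      res (ClSub.idealMod J) hc (e c) = g • res (ClSub.idealMod J) ha (e a) →
        res (Coh.structureModule X) hc (show Γ(Coh.structureModule X, (W c).1) from b c) =
          g • res (Coh.structureModule X) ha (show Γ(Coh.structureModule X, (W a).1) from b a) := by
    intro a c V ha hc' g hg
    have h1 := congrArg (OmegaSh.idealSect J V) hg
    rw [OmegaLib.idealSect_smul] at h1
    erw [OmegaLib.idealSect_map, OmegaLib.idealSect_map] at h1
    show resR hc' (b c) = g * resR ha (b a)
    refine Rel.unique f ((hb c).res f hc') ?_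
    rw [show resR hc' (OmegaSh.idealSect J (W c).1 (e c)) = g * resR ha (OmegaSh.idealSect J (W a).1 (e a)) from h1]
    exact ((hb a).res f ha).smul f g
  let ψ : ClSub.idealMod J ⟶ Coh.structureModule X := InvX.ofFrames hcov he hc
  have hψ : ∀ x, ψ.app (W x).1 (e x) = b x := fun x => InvX.ofFrames_app hcov he hc x
  have hane : ∀ x, OmegaSh.idealSect J (W x).1 (e x) ≠ 0 := fun x h0 => by
    haveI : Nonempty (W x).1 := ⟨⟨x, hxW x⟩⟩
    have he0 : e x = 0 := OmegaLib.idealSect_injective J _ (h0.trans (map_zero _).symm)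
    refine one_ne_zero (α := Γ(X, (W x).1)) ((he x).coord_unique le_rfl ?_)
    rw [he0, map_zero, smul_zero, smul_zero]
  have hψ0 : ψ ≠ 0 := fun h0 => by
    obtain ⟨x⟩ : Nonempty X := inferInstance
    haveI : Nonempty (W x).1 := ⟨⟨x, hxW x⟩⟩
    have hb0 : b x = 0 := by rw [← hψ x, h0]; rfl
    have h1 := (rel_iff f).1 (hb x)
    rw [hb0, map_zero, eq_comm, mul_eq_zero] at h1
    exact h1.elim (fun h => hane x (Scheme.germToFunctionField_injective X _ (h.trans (map_zero _).symm)))
      fun h => hf (Scheme.germToFunctionField_injective X _ (h.trans (map_zero _).symm))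
  haveI := InvEnd.mono_of_ne_zero hJi InvX.isInvertible_structureModule ψ hψ0
  obtain ⟨K, ε, hε⟩ := IdealSub.exists_iso_idealMod (CurveDeg.isCoh_of_isInvertible hJi).1 ψ
  refine ⟨J, K, hJ, (S8914.result K).1 (H23.PicMul.isInvertible_of_iso ε hJi), ⟨ε⟩,
    fun x hx => notMem_support_den f hx, exists_extension f, fun x hd hxJ => ?_⟩
  haveI := hufd x
  haveI : Nonempty (W x).1 := ⟨⟨x, hxW x⟩⟩
  let g := X.presheaf.germ (W x).1 x (hxW x)
  obtain ⟨a₁, b₁, hrel, ha₁, hcop, hI⟩ := stalk_den f (W x) (hxW x)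
  have hspan := CurveAlgEqLib.span_idealSect_frame J (W x) (he x)
  rw [hspan, Ideal.map_span, Set.image_singleton, Ideal.span_singleton_eq_span_singleton] at hI
  obtain ⟨v, hv⟩ := hI
  change g (OmegaSh.idealSect J (W x).1 (e x)) * ↑v = g a₁ at hv
  have hnu : ¬ IsUnit (g a₁) := fun hu => by
    rw [← hv, Units.isUnit_mul_units] at hu
    rw [Scheme.IdealSheafData.mem_support_iff_of_mem (hxW x), Scheme.mem_zeroLocus_iff] at hxJ
    exact hxJ _ (OmegaLib.idealSect_mem J (W x) (e x)) ((X.mem_basicOpen _ _ (hxW x)).2 hu)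
  have hb₁ : IsUnit (g b₁) := isUnit_of_isRelPrime hd hcop ha₁ hnu
  have hgK : ∀ c, X.germToFunctionField (W x).1 c = algebraMap (X.presheaf.stalk x) X.functionField (g c) :=
    fun c => (Scheme.algebraMap_germ_eq_germToFunctionField X (hxW x) c).symm
  have hbx : g (b x) * g a₁ = g b₁ * g (OmegaSh.idealSect J (W x).1 (e x)) := by
    refine IsFractionRing.injective (X.presheaf.stalk x) X.functionField ?_
    rw [map_mul (algebraMap (X.presheaf.stalk x) X.functionField),
      map_mul (algebraMap (X.presheaf.stalk x) X.functionField), ← hgK, ← hgK, ← hgK, ← hgK,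
      (rel_iff f).1 (hb x), (rel_iff f).1 hrel]
    ring
  have hu : IsUnit (g (b x)) := by
    have h2 : g (b x) * ↑v = g b₁ := by
      refine mul_left_cancel₀ (a := g (OmegaSh.idealSect J (W x).1 (e x))) (fun h0 => ha₁ ?_) ?_
      · show g a₁ = 0
        rw [← hv, h0, zero_mul]
      · rw [← hv] at hbx
        linear_combination hbx
    rw [← h2, Units.isUnit_mul_units] at hb₁
    exact hb₁
  rw [Scheme.IdealSheafData.mem_support_iff_of_mem (hxW x), Scheme.mem_zeroLocus_iff]
  refine fun hK => hK (b x) ?_ ((X.mem_basicOpen _ _ (hxW x)).2 hu)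
  have hbK : b x = OmegaSh.idealSect K (W x).1 (ε.hom.app (W x).1 (e x)) := by
    rw [← IdealSub.idealModι_app', ← hψ x, ← hε]
    rfl
  rw [hbK]
  exact OmegaLib.idealSect_mem K (W x) _

end Groth.Agent.AffCompl
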