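import Groth.Agent.AffCompl.Curves
import Groth.Agent.AffCompl.Pair
import Groth.Agent.S1572
import Groth.Agent.S7821
import Groth.Agent.NakaiMo.Main
import Groth.Agent.BigMono.SymBasic

/-!
# Ample divisors supported on the complement of an affine open of a regular proper surface
-/

set_option autoImplicit false
set_option linter.style.haveILetI false
set_option linter.unusedSectionVars false
set_option backward.isDefEq.respectTransparency false
set_option backward.isDefEq.respectTransparency.types false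
set_option maxHeartbeats 1000000

universe u

open CategoryTheory CategoryTheory.Limits AlgebraicGeometry TopologicalSpace
open Groth.Agent.H23.PicMul
open scoped Groth.Agent.H23.PicMul

noncomputable section

namespace Groth.Agent.AffCompl

open IntSym (sym Inv)

variable (k : Type u) [Field k] {X : Scheme.{u}} [X.Over (Spec (CommRingCat.of k))]
  [IsProper (X ↘ Spec (CommRingCat.of k))] [IsIntegral X]
  (hdim : topologicalKrullDim X = ((2 : ℕ) : WithBot ℕ∞))
  (hreg : ∀ x : X, IsRegularLocalRing (X.presheaf.stalk x))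
  {U : X.Opens} (hU : IsAffineOpen U) (hne : (U : Set X).Nonempty)

local notation "πk" => (X ↘ Spec (CommRingCat.of k))

include k hdim hreg hU hne in
theorem exists_compl_divisor :
    ∃ D : X.IdealSheafData, BlowUp.IsEffCartierIdeal D ∧ (D.support : Set X) = (U : Set X)ᶜ := by
  haveI := CurveCohLib.isNoetherian_of_proper (k := k) (X := X)
  haveI : X.IsSeparated := AmpleVan.isSeparated_of_proper (A := k)
  exact S1572.result X U hU (U.isOpen.dense hne) fun x _ => haveI := hreg x; S2821.result _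

include hne in
theorem genericPoint_mem : genericPoint ↥X ∈ U := by
  obtain ⟨x, hx⟩ := hne
  exact (genericPoint_specializes x).mem_open U.isOpen hx

include k hdim hU hne in
/-- An affine open carries a function that does not extend. -/
theorem exists_not_res : ∃ f : Γ(X, U), ∀ g : Γ(X, ⊤), AModX.resR (le_top : U ≤ ⊤) g ≠ f := by
  by_contra h
  push Not at h
  haveI : Nonempty U := ⟨⟨_, genericPoint_mem hne⟩⟩
  have hbij : Function.Bijective (AModX.resR (le_top : U ≤ ⊤) : Γ(X, ⊤) → Γ(X, U)) :=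
    ⟨map_injective_of_isIntegral X (homOfLE le_top), fun f => h f⟩
  have hF : IsField Γ(X, U) :=
    MulEquiv.isField (isField_of_universallyClosed k πk) (RingEquiv.ofBijective _ hbij).symm.toMulEquiv
  letI := hF.toField
  haveI : IsAffine U.toScheme := hU
  haveI : Subsingleton ↥(Spec Γ(X, U)) := inferInstanceAs (Subsingleton (PrimeSpectrum Γ(X, U)))
  haveI : Subsingleton ↥U.toScheme := hU.isoSpec.hom.isOpenEmbedding.injective.subsingleton
  have hη : IsClosed ({genericPoint ↥X} : Set X) := by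
    haveI : JacobsonSpace X := LocallyOfFiniteType.jacobsonSpace πk
    obtain ⟨y, hyU, hy⟩ := nonempty_inter_closedPoints (show (U : Set X).Nonempty from hne) U.isOpen.isLocallyClosed
    have hη : (⟨y, hyU⟩ : U.toScheme) = ⟨_, genericPoint_mem hne⟩ := Subsingleton.elim (α := ↥U.toScheme) _ _
    rw [← show y = genericPoint ↥X from congrArg Subtype.val hη]
    exact mem_closedPoints_iff.1 hy
  have h0 := (VarDim.closedPoint_iff_deg_eq_zero πk _).1 hη
  rw [deg_genericPoint k hdim] at h0
  omega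

theorem isIso_of_genLocus {L : X.Modules} (t : Coh.structureModule X ⟶ L)
    (h : CohB1.genLocus L t = ⊤) : IsIso t := by
  have hfr : InvX.IsFrame (InvX.one t) := by
    have hl := AmpleX.genLocus_eq_locus t
    rw [h] at hl
    exact H23.TrivBasic.locus_eq_top_iff.1 (by
      show CohB1.genLocus L (InvX.ofSect (InvX.one t)) = ⊤
      rw [AmpleX.genLocus_eq_locus, InvX.one_ofSect, ← hl])
  have := (InvX.isIso_restrict_iff t ⊤).2 (by rwa [AModX.res_self])
  exact Scheme.Modules.Hom.isIso_iff_isIso_app.2 fun V => by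
    have h1 := Scheme.Modules.Hom.isIso_iff_isIso_app.1 this ((⊤ : X.Opens).ι ⁻¹ᵁ V)
    have hV : (⊤ : X.Opens).ι ''ᵁ ((⊤ : X.Opens).ι ⁻¹ᵁ V) = V := by
      rw [Scheme.Hom.image_preimage_eq_opensRange_inf, Scheme.Opens.opensRange_ι, top_inf_eq]
    rw [← hV]
    exact h1

include k hdim hreg hU hne in
/-- The first divisor: non-negative on the curves outside, positive on one of them. -/
theorem exists_initial :
    ∃ (L : X.Modules) (s : Coh.structureModule X ⟶ L), PicF.IsInvertible L ∧ (∀ x ∈ U, x ∈ CohB1.genLocus L s) ∧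
      (∀ (C : Scheme.{u}) (i : C ⟶ X) [IsClosedImmersion i] [IsIntegral C],
        topologicalKrullDim C = ((1 : ℕ) : WithBot ℕ∞) → i (genericPoint C) ∉ U → 0 ≤ dg k i L) ∧
      ∃ (C : Scheme.{u}) (i : C ⟶ X) (_ : IsClosedImmersion i) (_ : IsIntegral C),
        topologicalKrullDim C = ((1 : ℕ) : WithBot ℕ∞) ∧ i (genericPoint C) ∉ U ∧ 0 < dg k i L := by
  haveI := CurveCohLib.isNoetherian_of_proper (k := k) (X := X)
  haveI : Nonempty U := ⟨⟨_, genericPoint_mem hne⟩⟩
  obtain ⟨f, hf⟩ := exists_not_res k hdim hU hne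
  have hufd : ∀ x : X, UniqueFactorizationMonoid (X.presheaf.stalk x) := fun x =>
    haveI := hreg x; (S2821.result (X.presheaf.stalk x)).2
  obtain ⟨J, K, hJ, hK, ⟨e⟩, hJU, hext, hcop⟩ :=
    exists_pair f hufd fun h0 => hf 0 (by rw [h0, map_zero])
  obtain ⟨L, s, hL, hLJ, hs⟩ := exists_section_of_divisor J hJ
  obtain ⟨eJ⟩ := hLJ
  have hLK : ClSub.IsInverseOf L (ClSub.idealMod K) :=
    ⟨((DCoh.tensorBi (X := X)).obj L).mapIso e.symm ≪≫ eJ⟩
  obtain ⟨σ, hσ⟩ := AmpleFamX.exists_divisor_section K hK hL hLK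
  let t : Coh.structureModule X ⟶ L := InvX.ofSect σ
  have ht : ∀ x, x ∈ CohB1.genLocus L t ↔ x ∉ K.support := hσ
  have hnn : ∀ (C : Scheme.{u}) (i : C ⟶ X) [IsClosedImmersion i] [IsIntegral C],
      topologicalKrullDim C = ((1 : ℕ) : WithBot ℕ∞) → 0 ≤ dg k i L := fun C i _ _ hC => by
    by_cases hJi : i (genericPoint C) ∈ J.support
    · exact (dg_of_section k i hC hL t ((ht _).2
        (hcop _ (ringKrullDim_stalk k hdim (deg_genericPoint_curve k i hC)) hJi))).1
    · exact (dg_of_section k i hC hL s ((hs _).2 hJi)).1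
  refine ⟨L, s, hL, fun x hx => (hs x).2 (hJU x hx), fun C i _ _ hC _ => hnn C i hC, ?_⟩
  by_contra hall
  push Not at hall
  -- the complement of `U` avoids the numerators
  obtain ⟨D₀, hD₀, hD₀s⟩ := exists_compl_divisor k hdim hreg hU hne
  obtain ⟨x₀, hx₀⟩ : (J.support : Set X).Nonempty := Set.nonempty_iff_ne_empty.2 fun h => by
    obtain ⟨g, hg⟩ := hext h
    exact hf g hg
  obtain ⟨ξ₀, hξ₀J, -, hξ₀⟩ := exists_curve_point k hdim hJ hx₀
  let A : Set X := {a | (a ∉ U ∧ VarDim.deg πk a = 1) ∧ a ∉ K.support}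
  have hA : A.Finite := (finite_curves k hdim U hne).subset fun a ha => ha.1
  let B : Set X := ⋃ a ∈ A, closure {a}
  have hB : IsClosed B := hA.isClosed_biUnion fun a _ => isClosed_closure
  have hcov : (U : Set X)ᶜ ⊆ B ∪ (K.support : Set X) := fun x hx => by
    obtain ⟨a, haD, hax, had⟩ := exists_curve_point k hdim hD₀ (x := x) (hD₀s.ge hx)
    by_cases haK : a ∈ K.support
    · exact Or.inr (hax.mem_closed K.support.isClosed haK)
    · exact Or.inl (Set.mem_biUnion (x := a) ⟨⟨hD₀s.le haD, had⟩, haK⟩ (specializes_iff_mem_closure.1 hax))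
  have hdisj : ∀ x ∈ B, x ∉ (K.support : Set X) := fun x hx hxK => by
    obtain ⟨a, ⟨⟨haU, had⟩, haK⟩, hxa⟩ := Set.mem_iUnion₂.1 hx
    obtain ⟨C, i, hi, hCI, hC, hr⟩ := exists_curve k had
    haveI := hi; haveI := hCI
    obtain ⟨z, rfl⟩ := hr.ge hxa
    have hgen : i (genericPoint C) = a := by
      have h1 : i (genericPoint C) ⤳ a := by
        obtain ⟨w, hw⟩ := hr.ge (subset_closure rfl)
        exact hw ▸ (genericPoint_specializes w).map i.continuous
      have h2 : a ⤳ i (genericPoint C) := specializes_iff_mem_closure.2 (hr.le ⟨_, rfl⟩)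
      exact (h1.antisymm h2).eq
    have hle := hall C i hi hCI hC (hgen ▸ haU)
    have hlt := (dg_of_section k i hC hL t ((ht _).2 (hgen ▸ haK))).2 z fun h => (ht _).1 h hxK
    omega
  have hconn := S7821.result k πk hdim ⟨U, hU⟩ hne
  have hξ₀U : ξ₀ ∉ U := fun h => hJU ξ₀ h hξ₀J
  have hξ₀B : ξ₀ ∈ B :=
    Set.mem_biUnion (x := ξ₀) ⟨⟨hξ₀U, hξ₀⟩, hcop ξ₀ (ringKrullDim_stalk k hdim hξ₀) hξ₀J⟩ (subset_closure rfl)
  have hKU : (K.support : Set X) ⊆ U := fun x hxK => by_contra fun hxU => by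
    obtain ⟨y, -, hyB, hyK⟩ := isPreconnected_closed_iff.1 hconn.isPreconnected B K.support hB K.support.isClosed
      hcov ⟨ξ₀, hξ₀U, hξ₀B⟩ ⟨x, hxU, hxK⟩
    exact hdisj y hyB hyK
  have htop : CohB1.genLocus L t = ⊤ := top_le_iff.1 fun x _ => (ht x).2 fun hxK => by
    obtain ⟨ξ, hξK, -, hξ⟩ := exists_curve_point k hdim hK hxK
    exact notMem_of_closed_in_affine k hU K.support.isClosed hKU hξ hξK
  haveI := isIso_of_genLocus t htop
  -- the other section is a global function
  let s' : Coh.structureModule X ⟶ Coh.structureModule X := s ≫ (asIso t).inv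
  have hs' : CohB1.genLocus (Coh.structureModule X) s' = CohB1.genLocus L s :=
    InvX.genLocus_comp_iso s (asIso t).symm
  have hone := InvX.isFrame_one (X := X) ⊤
  let g : Γ(X, ⊤) := InvX.one s'
  have hg : AModX.res (Coh.structureModule X) (le_top : (⊤ : X.Opens) ≤ ⊤) (InvX.one s') =
      g • (show Γ(Coh.structureModule X, ⊤) from (1 : Γ(X, ⊤))) := by
    rw [AModX.res_self]
    exact (mul_one g).symm
  have hloc := InvX.genLocus_inf s' hone hg
  rw [inf_top_eq, hs'] at hloc
  have hηs : genericPoint ↥X ∈ X.basicOpen g := hloc.le ((hs _).2 (hJU _ (genericPoint_mem hne)))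
  have hu : IsUnit g := by
    letI := (isField_of_universallyClosed k πk).toField
    refine isUnit_iff_ne_zero.2 fun h0 => ?_
    rw [h0, Scheme.basicOpen_zero] at hηs
    exact hηs
  exact (hs ξ₀).1 (hloc.ge (by rw [X.basicOpen_of_isUnit hu]; trivial)) hξ₀J

include k hdim hreg hU hne in
/-- A divisor supported in the complement positive on all the curves outside. -/
theorem exists_positive :
    ∃ (L : X.Modules) (s : Coh.structureModule X ⟶ L), PicF.IsInvertible L ∧ (∀ x ∈ U, x ∈ CohB1.genLocus L s) ∧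
      ∀ (C : Scheme.{u}) (i : C ⟶ X) [IsClosedImmersion i] [IsIntegral C],
        topologicalKrullDim C = ((1 : ℕ) : WithBot ℕ∞) → i (genericPoint C) ∉ U → 0 < dg k i L := by
  classical
  haveI := CurveCohLib.isNoetherian_of_proper (k := k) (X := X)
  let T : Set X := {a : X | a ∉ U ∧ VarDim.deg πk a = 1}
  haveI : Fintype T := (finite_curves k hdim U hne).fintype
  have hcv : ∀ a : T, ∃ (C : Scheme.{u}) (i : C ⟶ X), IsClosedImmersion i ∧ IsIntegral C ∧
      topologicalKrullDim C = ((1 : ℕ) : WithBot ℕ∞) ∧ Set.range i = closure {a.1} := fun a => exists_curve k a.2.2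
  choose C i hi hCI hC hr using hcv
  haveI := hi; haveI := hCI
  have hgen : ∀ a : T, i a (genericPoint (C a)) = a.1 := fun a => by
    have h1 : i a (genericPoint (C a)) ⤳ a.1 := by
      obtain ⟨w, hw⟩ := (hr a).ge (subset_closure rfl)
      exact hw ▸ (genericPoint_specializes w).map (i a).continuous
    have h2 : a.1 ⤳ i a (genericPoint (C a)) := specializes_iff_mem_closure.2 ((hr a).le ⟨_, rfl⟩)
    exact (h1.antisymm h2).eq
  -- every curve outside is one of the chosen ones
  have hall : ∀ (W : Scheme.{u}) (j : W ⟶ X) [IsClosedImmersion j] [IsIntegral W],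
      topologicalKrullDim W = ((1 : ℕ) : WithBot ℕ∞) → j (genericPoint W) ∉ U →
        ∃ a : T, ∀ L, PicF.IsInvertible L → dg k j L = dg k (i a) L := fun W j _ _ hW hjU => by
    refine ⟨⟨_, hjU, deg_genericPoint_curve k j hW⟩, fun L hL => dg_congr k j _ ?_ hL⟩
    rw [QCoh.range_eq_closure j, hr]
  -- the canonical section of each curve
  have hO : ∀ a : T, ∃ (M : X.Modules) (σ : Coh.structureModule X ⟶ M), PicF.IsInvertible M ∧
      ∀ x : X, x ∈ CohB1.genLocus M σ ↔ x ∉ closure ({a.1} : Set X) := fun a => by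
    obtain ⟨M, σ, hM, -, hσ⟩ := exists_section_of_divisor _
      (IntSym.CurveSurface.isEffCartier_ker k hdim hreg (i a) (hC a))
    refine ⟨M, σ, hM, fun x => (hσ x).trans ?_⟩
    rw [← SetLike.mem_coe, Scheme.Hom.support_ker, (i a).isClosedEmbedding.isClosed_range.closure_eq, hr]
  choose M σ hM hσ using hO
  have hinter : ∀ a b : T, a ≠ b → 0 ≤ dg k (i b) (M a) ∧
      ∀ x ∈ closure ({a.1} : Set X), x ∈ closure ({b.1} : Set X) → 0 < dg k (i b) (M a) := fun a b hab => by
    have hb : i b (genericPoint (C b)) ∈ CohB1.genLocus (M a) (σ a) := (hσ a _).2 fun hmem => hab (Subtype.ext (by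
      rw [hgen] at hmem
      by_contra hne'
      have := deg_lt k (specializes_iff_mem_closure.2 hmem) hne'
      rw [a.2.2, b.2.2] at this
      omega))
    refine ⟨(dg_of_section k (i b) (hC b) (hM a) (σ a) hb).1, fun x hxa hxb => ?_⟩
    obtain ⟨z, rfl⟩ := (hr b).ge hxb
    exact (dg_of_section k (i b) (hC b) (hM a) (σ a) hb).2 z fun h => (hσ a _).1 h hxa
  let Good : X.Modules → Prop := fun L => PicF.IsInvertible L ∧
    (∃ s : Coh.structureModule X ⟶ L, ∀ x ∈ U, x ∈ CohB1.genLocus L s) ∧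
    (∀ a : T, 0 ≤ dg k (i a) L) ∧ ∃ a : T, 0 < dg k (i a) L
  suffices H : ∃ L, Good L ∧ ∀ a : T, 0 < dg k (i a) L by
    obtain ⟨L, ⟨hL, ⟨s, hs⟩, -⟩, hp⟩ := H
    refine ⟨L, s, hL, hs, fun W j _ _ hW hjU => ?_⟩
    obtain ⟨a, ha⟩ := hall W j hW hjU
    rw [ha L hL]
    exact hp a
  obtain ⟨L₀, s₀, hL₀, hs₀, hnn₀, W, j, hj, hWI, hW, hjU, hpos⟩ := exists_initial k hdim hreg hU hne
  have hgood₀ : Good L₀ := by
    refine ⟨hL₀, ⟨s₀, hs₀⟩, fun a => hnn₀ _ (i a) (hC a) (by rw [hgen]; exact a.2.1), ?_⟩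
    haveI := hj; haveI := hWI
    obtain ⟨a, ha⟩ := hall W j hW hjU
    exact ⟨a, (ha L₀ hL₀) ▸ hpos⟩
  obtain ⟨D₀, hD₀, hD₀s⟩ := exists_compl_divisor k hdim hreg hU hne
  have hconn := S7821.result k πk hdim ⟨U, hU⟩ hne
  have main : ∀ n : ℕ, ∀ L, Good L → (Finset.univ.filter fun a : T => dg k (i a) L ≤ 0).card ≤ n →
      ∃ L', Good L' ∧ ∀ a : T, 0 < dg k (i a) L' := by
    intro n
    induction n with
    | zero =>
      intro L hL h0
      refine ⟨L, hL, fun a => ?_⟩
      by_contra h
      have : a ∈ Finset.univ.filter fun a : T => dg k (i a) L ≤ 0 :=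
        Finset.mem_filter.2 ⟨Finset.mem_univ a, le_of_not_gt h⟩
      rw [Finset.card_eq_zero.1 (Nat.le_zero.1 h0)] at this
      exact Finset.notMem_empty a this
    | succ n ih =>
      intro L hLG hn
      by_cases hall' : ∀ a : T, 0 < dg k (i a) L
      · exact ⟨L, hLG, hall'⟩
      obtain ⟨hL, ⟨s, hs⟩, hnn, a₀, ha₀⟩ := hLG
      push Not at hall'
      obtain ⟨b₀, hb₀⟩ := hall'
      -- a positive curve meeting a null one
      obtain ⟨a, b, ha, hb, x, hxa, hxb⟩ : ∃ a b : T, 0 < dg k (i a) L ∧ dg k (i b) L ≤ 0 ∧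
          ∃ x, x ∈ closure ({a.1} : Set X) ∧ x ∈ closure ({b.1} : Set X) := by
        obtain ⟨y, -, hyA, hyB⟩ := isPreconnected_closed_iff.1 hconn.isPreconnected
          (⋃ a ∈ {a : T | 0 < dg k (i a) L}, closure {a.1}) (⋃ a ∈ {a : T | dg k (i a) L ≤ 0}, closure {a.1})
          ((Set.toFinite _).isClosed_biUnion fun _ _ => isClosed_closure)
          ((Set.toFinite _).isClosed_biUnion fun _ _ => isClosed_closure)
          (fun x hx => by
            obtain ⟨ξ, hξD, hξx, hξ⟩ := exists_curve_point k hdim hD₀ (x := x) (hD₀s.ge hx)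
            rcases lt_or_ge 0 (dg k (i ⟨ξ, hD₀s.le hξD, hξ⟩) L) with h | h
            · exact Or.inl (Set.mem_biUnion (x := (⟨ξ, hD₀s.le hξD, hξ⟩ : T)) h (specializes_iff_mem_closure.1 hξx))
            · exact Or.inr (Set.mem_biUnion (x := (⟨ξ, hD₀s.le hξD, hξ⟩ : T)) h (specializes_iff_mem_closure.1 hξx)))
          ⟨a₀.1, a₀.2.1, Set.mem_biUnion (x := a₀) ha₀ (subset_closure rfl)⟩
          ⟨b₀.1, b₀.2.1, Set.mem_biUnion (x := b₀) hb₀ (subset_closure rfl)⟩
        obtain ⟨a, ha, hya⟩ := Set.mem_iUnion₂.1 hyA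
        obtain ⟨b, hb, hyb⟩ := Set.mem_iUnion₂.1 hyB
        exact ⟨a, b, ha, hb, y, hya, hyb⟩
      have hab : a ≠ b := fun h => by rw [h] at ha; omega
      let N : ℕ := (dg k (i a) (M a)).natAbs + 1
      let L' := CohB1.tensorMod (CohB1.tensorPow L N) (M a)
      have hLN := InvX.isInvertible_tensorPow hL N
      have hL' : PicF.IsInvertible L' := InvX.isInvertible_tensorMod hLN (hM a)
      have hd : ∀ c : T, dg k (i c) L' = N * dg k (i c) L + dg k (i c) (M a) := fun c => by
        rw [dg_tensor k (i c) (hC c) hLN (hM a), dg_pow k (i c) (hC c) hL]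
      have hkeep : ∀ c : T, 0 < dg k (i c) L → 0 < dg k (i c) L' := fun c hc => by
        rw [hd]
        have h1 : (N : ℤ) ≤ N * dg k (i c) L := le_mul_of_one_le_right (by positivity) hc
        rcases eq_or_ne a c with rfl | hne'
        · simp only [N] at h1 ⊢
          omega
        · have := (hinter a c hne').1
          simp only [N] at h1 ⊢
          omega
      have hnn' : ∀ c : T, 0 ≤ dg k (i c) L' := fun c => by
        rcases (hnn c).lt_or_eq with hc | hc
        · exact (hkeep c hc).le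
        · rw [hd, ← hc, mul_zero, zero_add]
          exact (hinter a c fun h => by rw [h] at ha; omega).1
      have hb' : 0 < dg k (i b) L' := by
        rw [hd, show dg k (i b) L = 0 from le_antisymm hb (hnn b), mul_zero, zero_add]
        exact (hinter a b hab).2 x hxa hxb
      refine ih L' ⟨hL', ⟨InvX.mulHom (InvX.powHom s N) (σ a), fun y hy => ?_⟩, hnn', b, hb'⟩ ?_
      · rw [InvX.genLocus_mulHom hLN (hM a)]
        refine ⟨(InvX.genLocus_powHom hL s _).ge (hs y hy), (hσ a y).2 fun h => a.2.1 ?_⟩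
        exact (specializes_iff_mem_closure.2 h).mem_open U.isOpen hy
      · have hlt : (Finset.univ.filter fun c : T => dg k (i c) L' ≤ 0).card <
            (Finset.univ.filter fun c : T => dg k (i c) L ≤ 0).card := by
          refine Finset.card_lt_card ⟨fun c hc => ?_, fun h => ?_⟩
          · rw [Finset.mem_filter] at hc ⊢
            exact ⟨hc.1, le_of_not_gt fun h => absurd (hkeep c h) (not_lt_of_ge hc.2)⟩
          · exact absurd (Finset.mem_filter.1 (h (Finset.mem_filter.2 ⟨Finset.mem_univ b, hb⟩))).2 (not_le_of_gt hb')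
        omega
  exact main _ L₀ hgood₀ le_rfl

include k hdim hreg hU hne in
/-- Positive on every curve, vanishing exactly outside `U`. -/
theorem exists_positive_all :
    ∃ (L : X.Modules) (s : Coh.structureModule X ⟶ L), PicF.IsInvertible L ∧
      ((CohB1.genLocus L s : X.Opens) : Set X) = U ∧
      ∀ (C : Scheme.{u}) (i : C ⟶ X) [IsClosedImmersion i] [IsIntegral C],
        topologicalKrullDim C = ((1 : ℕ) : WithBot ℕ∞) → 0 < dg k i L := by
  classical
  haveI := CurveCohLib.isNoetherian_of_proper (k := k) (X := X)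
  obtain ⟨L, s, hL, hs, hpos⟩ := exists_positive k hdim hreg hU hne
  obtain ⟨D₀, hD₀, hD₀s⟩ := exists_compl_divisor k hdim hreg hU hne
  obtain ⟨M, σ, hM, -, hσ⟩ := exists_section_of_divisor D₀ hD₀
  have hσU : ∀ x, x ∈ CohB1.genLocus M σ ↔ x ∈ U := fun x => by
    rw [hσ, ← SetLike.mem_coe, hD₀s, Set.notMem_compl_iff]
    rfl
  let T : Set X := {a : X | a ∉ U ∧ VarDim.deg πk a = 1}
  haveI : Fintype T := (finite_curves k hdim U hne).fintype
  have hcv : ∀ a : T, ∃ (C : Scheme.{u}) (i : C ⟶ X), IsClosedImmersion i ∧ IsIntegral C ∧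
      topologicalKrullDim C = ((1 : ℕ) : WithBot ℕ∞) ∧ Set.range i = closure {a.1} := fun a => exists_curve k a.2.2
  choose C i hi hCI hC hr using hcv
  haveI := hi; haveI := hCI
  let N : ℕ := (Finset.univ.sup fun a : T => (dg k (i a) M).natAbs) + 1
  have hLN := InvX.isInvertible_tensorPow hL N
  let s' := InvX.mulHom (InvX.powHom s N) σ
  have hgl : ((CohB1.genLocus (CohB1.tensorMod (CohB1.tensorPow L N) M) s' : X.Opens) : Set X) = U := by
    refine Set.ext fun x => ?_
    rw [SetLike.mem_coe, InvX.genLocus_mulHom hLN hM]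
    exact ⟨fun h => (hσU x).1 h.2, fun h => ⟨(InvX.genLocus_powHom hL s _).ge (hs x h), (hσU x).2 h⟩⟩
  refine ⟨_, s', InvX.isInvertible_tensorMod hLN hM, hgl, fun W j _ _ hW => ?_⟩
  by_cases hjU : j (genericPoint W) ∈ U
  · have hη : j (genericPoint W) ∈ CohB1.genLocus _ s' := hgl.ge hjU
    obtain ⟨z, hz⟩ : ∃ z, j z ∉ U := by
      by_contra hz
      push Not at hz
      exact notMem_of_closed_in_affine k hU j.isClosedEmbedding.isClosed_range (Set.range_subset_iff.2 hz)
        (deg_genericPoint_curve k j hW) ⟨_, rfl⟩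
    exact (dg_of_section k j hW (InvX.isInvertible_tensorMod hLN hM) s' hη).2 z fun h => hz (hgl.le h)
  · rw [dg_tensor k j hW hLN hM, dg_pow k j hW hL]
    let a : T := ⟨_, hjU, deg_genericPoint_curve k j hW⟩
    have hM' : dg k j M = dg k (i a) M := dg_congr k j _ (by rw [QCoh.range_eq_closure j, hr]) hM
    have h1 : (N : ℤ) ≤ N * dg k j L := le_mul_of_one_le_right (by positivity) (hpos W j hW hjU)
    have h2 := Finset.le_sup (f := fun a : T => (dg k (i a) M).natAbs) (Finset.mem_univ a)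
    simp only [N] at h1 ⊢
    omega

include k hdim hreg hU hne in
/-- The ample divisor. -/
theorem exists_ample :
    ∃ I : X.IdealSheafData, BlowUp.IsEffCartierIdeal I ∧ (I.support : Set X) = (U : Set X)ᶜ ∧
      ∀ L : X.Modules, PicF.IsInvertible L → ClSub.IsInverseOf L (ClSub.idealMod I) → CohB1.IsAmple L := by
  haveI := CurveCohLib.isNoetherian_of_proper (k := k) (X := X)
  obtain ⟨L, s, hL, hgl, hpos⟩ := exists_positive_all k hdim hreg hU hne
  have hs0 : s ≠ 0 := ne_zero_of_mem s (hgl.ge (genericPoint_mem hne))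
  obtain ⟨I, hI, ⟨eI⟩, hIs⟩ := exists_divisor_of_section hL s hs0
  rw [hgl] at hIs
  refine ⟨I, hI, hIs, fun L₁ hL₁ ⟨e₁⟩ => ?_⟩
  have hIi := (S8914.result I).2 hI
  obtain ⟨e'⟩ : Nonempty (L ≅ L₁) := cl_eq_iff.1 ((isUnit_cl hIi).mul_right_cancel (by
    rw [← cl_tensor, ← cl_tensor, cl_eq_iff.2 ⟨eI⟩, cl_eq_iff.2 ⟨e₁⟩]))
  refine AmpleX.isAmple_of_iso e' ?_
  refine NakaiMo.isAmple_of_pos k hL fun W j _ _ d hd0 hd => ?_
  have hd2 : VarDim.deg πk (j (genericPoint W)) = d := by
    have h := VarDim.topologicalKrullDim_closure_singleton πk (j (genericPoint W))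
    rw [← IntSym.dim_eq_of_range j (QCoh.range_eq_closure j), hd] at h
    exact_mod_cast h.symm
  have hdle : VarDim.deg πk (j (genericPoint W)) ≤ 2 :=
    deg_genericPoint k hdim ▸ VarDim.deg_le_of_specializes πk (genericPoint_specializes _)
  rw [hd2] at hdle
  obtain rfl | rfl : d = 1 ∨ d = 2 := by omega
  · exact hpos W j hd
  -- the self-intersection
  have hη : j (genericPoint W) = genericPoint ↥X := by
    by_contra hne'
    have := deg_lt k (genericPoint_specializes (j (genericPoint W))) (Ne.symm hne')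
    rw [hd2, deg_genericPoint k hdim] at this
    omega
  obtain ⟨ej⟩ := QCoh.push_structure_iso j (𝟙 X) (by
    rw [QCoh.range_eq_closure j, QCoh.range_eq_closure (𝟙 X), hη]
    rfl)
  let eid : (Coh.push (𝟙 X)).obj (Coh.structureModule X) ≅ Coh.structureModule X :=
    (Scheme.Modules.pushforwardId X).app (Coh.structureModule X)
  have hl2 : Inv [L, L] := List.forall_mem_cons.2 ⟨hL, List.forall_mem_singleton.2 hL⟩
  rw [← IntSym.sym_replicate, show List.replicate 2 L = [L, L] from rfl,
    IntSym.sym_iso k hl2 ej.symm, IntSym.sym_iso k hl2 eid]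
  have hO : Coh.IsCoh (Coh.structureModule X) := QCoh.isCoh_structureModule'
  have hdO : topologicalKrullDim ↥(CohB1.support (Coh.structureModule X)) ≤ ((([L] : List X.Modules).length + 1 : ℕ) : WithBot ℕ∞) := by
    rw [BigMono.support_structure, (Homeomorph.Set.univ X).isHomeomorph.topologicalKrullDim_eq, hdim]
    rfl
  have hneg := IntSym.CurveSurface.intNum_idealMod k hdim.le hI hL
  rw [IntSym.CurveSurface.intNum_pair k hdim.le hIi hL,
    IntSym.sym_inverse_head k hIi hL (CurveTensor.commIso _ _ ≪≫ eI) (List.forall_mem_singleton.2 hL) hO hdO,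
    neg_inj] at hneg
  rw [hneg]
  -- positivity on the divisor
  letI : I.subscheme.Over (Spec (CommRingCat.of k)) := ⟨I.subschemeι ≫ πk⟩
  haveI : IsProper (I.subscheme ↘ Spec (CommRingCat.of k)) := inferInstanceAs (IsProper (I.subschemeι ≫ πk))
  haveI := CurveCohLib.isNoetherian_of_proper (k := k) (X := I.subscheme)
  have hr : Set.range I.subschemeι = (U : Set X)ᶜ := by rw [Scheme.IdealSheafData.range_subschemeι, hIs]
  have hdZ : topologicalKrullDim I.subscheme ≤ ((1 : ℕ) : WithBot ℕ∞) := by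
    rw [IntSym.dim_eq_of_range I.subschemeι hr]
    refine HilbPoly.le_of_lt_succ ((H23.TopDim.dim_lt_of_ssubset (X := X) ?_ U.isOpen.isClosed_compl ?_).trans_le hdim.le)
    · rw [hdim]
      exact WithBot.coe_inj.not.2 (ENat.natCast_ne_top _)
    · exact fun h => (h ▸ Set.mem_univ _ : genericPoint ↥X ∈ (U : Set X)ᶜ) (genericPoint_mem hne)
  have hamp : CohB1.IsAmple ((Scheme.Modules.pullback I.subschemeι).obj L) := by
    refine IntNum.isAmple_of_deg_pos k (hdZ.trans (by rw [Nat.cast_one])) (PicClLib.isInvertible_pullback _ hL)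
      fun C i _ _ hC => ?_
    have h := hpos C (i ≫ I.subschemeι) (by rw [hC, Nat.cast_one])
    rw [dg_eq_deg k _ hL] at h
    letI : C.Over (Spec (CommRingCat.of k)) := ⟨(i ≫ I.subschemeι) ≫ πk⟩
    haveI : IsProper (C ↘ Spec (CommRingCat.of k)) := inferInstanceAs (IsProper ((i ≫ I.subschemeι) ≫ πk))
    rw [CurveRR.deg_congr k ((Scheme.Modules.pullbackComp i I.subschemeι).app L).symm 1] at h
    simp only [Category.assoc, Functor.comp_obj] at h ⊢
    exact h
  have hne' : (U : Set X)ᶜ.Nonempty := (S7821.result k πk hdim ⟨U, hU⟩ hne).nonempty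
  obtain ⟨x, hx⟩ := hne'
  obtain ⟨D₀, hD₀, hD₀s⟩ := exists_compl_divisor k hdim hreg hU hne
  obtain ⟨ξ, hξD, -, hξ⟩ := exists_curve_point k hdim hD₀ (x := x) (hD₀s.ge hx)
  have hdZ1 : topologicalKrullDim I.subscheme = ((1 : ℕ) : WithBot ℕ∞) := by
    refine le_antisymm hdZ ?_
    rw [IntSym.dim_eq_of_range I.subschemeι hr]
    have h1 := VarDim.topologicalKrullDim_closure_singleton πk ξ
    rw [hξ] at h1
    exact h1.ge.trans (H23.TopDim.dim_le_dim_of_subset
      (U.isOpen.isClosed_compl.closure_subset_iff.2 (Set.singleton_subset_iff.2 (hD₀s.le hξD))))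
  have hsupp : CohB1.support (Coh.structureModule I.subscheme) = Set.univ :=
    Set.eq_univ_of_forall fun z h => by
      haveI : Subsingleton ((Coh.structureModule I.subscheme).presheaf.stalk z) := h
      obtain ⟨e⟩ := AssLib.nonempty_stalkUnitEquiv z
      haveI : Subsingleton (I.subscheme.presheaf.stalk z) := e.toEquiv.subsingleton
      exact not_subsingleton (I.subscheme.presheaf.stalk z) inferInstance
  have hdim1 : topologicalKrullDim ↥(CohB1.support (Coh.structureModule I.subscheme)) = ((1 : ℕ) : WithBot ℕ∞) := by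
    rw [hsupp, (Homeomorph.Set.univ _).isHomeomorph.topologicalKrullDim_eq, hdZ1]
  have h := (HilbPoly.mult_nonneg_and_pos k hamp 1 (Coh.structureModule I.subscheme)
    QCoh.isCoh_structureModule' hdim1.le).2 hdim1
  rw [NakaiMo.mult_push k I.subschemeι rfl hL QCoh.isCoh_structureModule'] at h
  exact h

end Groth.Agent.AffCompl
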