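import Groth.Agent.AmpleFamX.Divisor
import Groth.Agent.DepthTwist.Connected
import Groth.Agent.S17351
import Groth.Agent.GenusOneX.Fibre
import Groth.Agent.S8914
import Groth.Agent.IdealSub.OfMono
import Groth.Agent.Lib.InvEnd
import Groth.Agent.Lib.CurveDeg

/-!
# Sections of invertible modules and effective Cartier divisors on integral schemes
-/

set_option autoImplicit false
set_option linter.style.haveILetI false
set_option linter.unusedSectionVars false
set_option backward.isDefEq.respectTransparency false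
set_option backward.isDefEq.respectTransparency.types false
set_option maxHeartbeats 800000

universe u

open CategoryTheory CategoryTheory.Limits AlgebraicGeometry TopologicalSpace
open Groth.Agent.H23.PicMul
open scoped Groth.Agent.H23.PicMul

noncomputable section

namespace Groth.Agent.AffCompl

variable {X : Scheme.{u}}

/-- An inverse of an effective Cartier ideal with its canonical section. -/
theorem exists_section_of_divisor (J : X.IdealSheafData) (hJ : BlowUp.IsEffCartierIdeal J) :
    ∃ (L : X.Modules) (s : Coh.structureModule X ⟶ L), PicF.IsInvertible L ∧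
      ClSub.IsInverseOf L (ClSub.idealMod J) ∧ ∀ x : X, x ∈ CohB1.genLocus L s ↔ x ∉ J.support := by
  obtain ⟨L, hL, ⟨e⟩⟩ := H23.PicInv.exists_inverse ((S8914.result J).2 hJ)
  have hLJ : ClSub.IsInverseOf L (ClSub.idealMod J) := cl_eq_iff.1 (by
    rw [cl_tensor, mul_comm, ← cl_tensor]
    exact cl_eq_iff.2 ⟨e⟩)
  obtain ⟨σ, hσ⟩ := AmpleFamX.exists_divisor_section J hJ hL hLJ
  refine ⟨L, InvX.ofSect σ, hL, hLJ, fun x => ?_⟩
  exact hσ x

theorem ne_zero_of_mem [IsIntegral X] {L : X.Modules} (s : Coh.structureModule X ⟶ L) {x : X}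
    (hx : x ∈ CohB1.genLocus L s) : s ≠ 0 := by
  rintro rfl
  obtain ⟨W, hxW, hW⟩ := InvX.mem_genLocus hx
  haveI : Nonempty W := ⟨⟨x, hxW⟩⟩
  have h0 : InvX.one (0 : Coh.structureModule X ⟶ L) = 0 := rfl
  rw [h0, map_zero] at hW
  exact zero_ne_one (α := Γ(X, W)) (hW.coord_unique le_rfl (by simp))

/-- The divisor of a nonzero section. -/
theorem exists_divisor_of_section [IsLocallyNoetherian X] [IsIntegral X] {L : X.Modules}
    (hL : PicF.IsInvertible L) (s : Coh.structureModule X ⟶ L) (hs : s ≠ 0) :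
    ∃ I : X.IdealSheafData, BlowUp.IsEffCartierIdeal I ∧ ClSub.IsInverseOf L (ClSub.idealMod I) ∧
      (I.support : Set X) = ((CohB1.genLocus L s : X.Opens) : Set X)ᶜ := by
  obtain ⟨D, hD, ⟨eD⟩⟩ := H23.PicInv.exists_inverse hL
  obtain ⟨c⟩ : Nonempty ((DCoh.tensorBi.obj D).obj L ≅ Coh.structureModule X) := cl_eq_iff.1 (by
    show PicF.cl (CohB1.tensorMod D L) = _
    rw [cl_tensor, mul_comm, ← cl_tensor]
    exact cl_eq_iff.2 ⟨eD⟩)
  let ψ : D ⟶ Coh.structureModule X :=
    (KFlatLib.tensorUnitIso D).inv ≫ (DCoh.tensorBi.obj D).map s ≫ c.hom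
  haveI := DepthTwist.isEquivalence_tensorLeft hD
  haveI := InvEnd.mono_of_ne_zero InvX.isInvertible_structureModule hL s hs
  haveI : Mono ψ := mono_comp _ _
  obtain ⟨I, ε, hε⟩ := IdealSub.exists_iso_idealMod (CurveDeg.isCoh_of_isInvertible hD).1 ψ
  have hI := isInvertible_of_iso ε hD
  refine ⟨I, (S8914.result I).1 hI,
    ⟨((DCoh.tensorBi (X := X)).obj L).mapIso ε.symm ≪≫ eD⟩, Set.ext fun x => ?_⟩
  have hψ : Function.Surjective ((DerSch.stalkFunctor X x).map ψ) ↔ x ∈ CohB1.genLocus L s := by
    obtain ⟨e⟩ := H23.InvStalk.exists_stalk_equiv hD x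
    rw [← DepthTwist.surjective_stalk_iff hL s x, ← H23.InvStalk.stalk_tensor_map_surjective_iff s x e]
    have ha := ConcreteCategory.bijective_of_isIso ((DerSch.stalkFunctor X x).map c.hom)
    have hb := ConcreteCategory.bijective_of_isIso ((DerSch.stalkFunctor X x).map (KFlatLib.tensorUnitIso D).inv)
    simp only [ψ, Functor.map_comp]
    exact (Function.Surjective.of_comp_iff _ hb.2).trans (Function.Surjective.of_comp_iff' ha _)
  rw [Set.mem_compl_iff, SetLike.mem_coe, SetLike.mem_coe, ← hψ, ← hε, Functor.map_comp]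
  have he := ConcreteCategory.bijective_of_isIso ((DerSch.stalkFunctor X x).map ε.hom)
  refine Iff.trans ?_ (not_congr (Function.Surjective.of_comp_iff _ he.2)).symm
  exact ⟨fun hx => GenusOneX.not_surjective_stalk_idealModι I hI hx,
    fun hx => by_contra fun hx' => hx (S17351.surjective_idealModι I hx')⟩

end Groth.Agent.AffCompl
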